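import Mathlib.CategoryTheory.Sites.RegularEpi
import Mathlib.CategoryTheory.Limits.Shapes.RegularMono
import Mathlib.CategoryTheory.Sites.Limits
import Mathlib.CategoryTheory.Limits.Shapes.Pullback.IsPullback.Basic

/-!
# Quotient by a relation covering the kernel pair of an effective epimorphism
-/

universe v u

open CategoryTheory CategoryTheory.Limits

namespace Groth.Agent.QuotEpi14

theorem isIso_coequalizerDesc {C : Type u} [Category.{v} C] {R U M W : C} (s t : R ⟶ U) [HasCoequalizer s t]
    (q : U ⟶ M) [EffectiveEpi q] (w : s ≫ q = t ≫ q) {l r : W ⟶ U} (hp : IsPullback l r q q)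
    (e : R ⟶ W) [Epi e] (hl : e ≫ l = t) (hr : e ≫ r = s) : IsIso (coequalizer.desc q w) := by
  let c := isColimitCoforkOfEffectiveEpi q hp.cone hp.isLimit
  have hπ : l ≫ coequalizer.π s t = r ≫ coequalizer.π s t := by
    rw [← cancel_epi e, reassoc_of% hl, reassoc_of% hr, coequalizer.condition]
  let inv' : M ⟶ coequalizer s t := Cofork.IsColimit.desc c (coequalizer.π s t) hπ
  have h1 : q ≫ inv' = coequalizer.π s t := Cofork.IsColimit.π_desc' c _ hπ
  refine ⟨inv', ?_, ?_⟩
  · ext; rw [coequalizer.π_desc_assoc, Category.comp_id, h1]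
  · rw [← cancel_epi q, ← Category.assoc, h1, coequalizer.π_desc, Category.comp_id]

end Groth.Agent.QuotEpi14
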